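import Mathlib
import Groth.Prelude.Def_SGA4a

/-!
# Consequences of the axioms of Giraud
-/

set_option autoImplicit false
set_option backward.isDefEq.respectTransparency false
set_option backward.isDefEq.respectTransparency.types false
set_option linter.style.haveILetI false

universe v u

open CategoryTheory Limits Opposite

namespace Groth.Agent.Giraud

variable {E : Type v} [Category.{u} E] [HasFiniteLimits E]

/-- All base changes are effective epimorphisms. -/
def Surj {A B : E} (π : A ⟶ B) : Prop := ∀ (B' : E) (g : B' ⟶ B), EffectiveEpi (pullback.snd π g)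

theorem epi_snd {A B B' : E} {π : A ⟶ B} (h : Surj π) (g : B' ⟶ B) : Epi (pullback.snd π g) := by
  haveI := h B' g
  infer_instance

/-- Two maps to the target lift along a surjection on an epimorphic cover of their source. -/
theorem exists_lift₂ {A B T : E} {π : A ⟶ B} (h : Surj π) (a b : T ⟶ B) :
    ∃ (T' : E) (e : T' ⟶ T) (_ : Epi e) (a' b' : T' ⟶ A), a' ≫ π = e ≫ a ∧ b' ≫ π = e ≫ b := by
  let e₁ := pullback.snd π a
  haveI : Epi e₁ := epi_snd h a
  let e₂ := pullback.snd π (e₁ ≫ b)
  haveI : Epi e₂ := epi_snd h _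
  exact ⟨_, e₂ ≫ e₁, inferInstance, e₂ ≫ pullback.fst π a, pullback.fst π (e₁ ≫ b),
    by simp [e₁, pullback.condition], by simp [e₂, pullback.condition]⟩

theorem generate_singleton_mem {A B : E} {π : A ⟶ B} (h : Surj π) :
    Sieve.generate (Presieve.singleton π) ∈ Sheaf.canonicalTopology E B := by
  apply Sheaf.mem_finestTopology_of_forall_isSheafFor
  rintro _ ⟨W, rfl⟩ Y f
  have he : (Sieve.generate (Presieve.singleton π)).pullback f =
      Sieve.generate (Presieve.singleton (pullback.snd π f)) := by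
    ext Z k
    constructor
    · rintro ⟨_, g, _, ⟨⟩, hg⟩
      exact ⟨_, pullback.lift g k hg, _, ⟨⟩, pullback.lift_snd _ _ _⟩
    · rintro ⟨_, g, _, ⟨⟩, rfl⟩
      exact ⟨_, g ≫ pullback.fst π f, _, ⟨⟩, by simp [pullback.condition]⟩
  rw [he, ← Presieve.isSheafFor_iff_generate]
  haveI := h Y f
  exact Presieve.IsSheafFor.singleton_of_isRepresentable_of_effectiveEpi _ _

theorem generate_cofan_mem {ι : Type u} {X : ι → E} {c : Cofan X} (hc : IsUniversalColimit c) :
    Sieve.generate (Presieve.ofArrows X c.inj) ∈ Sheaf.canonicalTopology E c.pt := by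
  apply Sheaf.mem_finestTopology_of_forall_isSheafFor
  rintro _ ⟨W, rfl⟩ Y f
  have he : (Sieve.generate (Presieve.ofArrows X c.inj)).pullback f =
      Sieve.generate (Presieve.ofArrows _ (fun i => pullback.snd (c.inj i) f)) := by
    ext Z k
    constructor
    · rintro ⟨_, g, _, ⟨i⟩, hg⟩
      exact ⟨_, pullback.lift g k hg, _, ⟨i⟩, pullback.lift_snd _ _ _⟩
    · rintro ⟨_, g, _, ⟨i⟩, rfl⟩
      exact ⟨_, g ≫ pullback.fst (c.inj i) f, _, ⟨i⟩, by simp [pullback.condition]⟩
  rw [he, ← Presieve.isSheafFor_iff_generate, Presieve.isSheafFor_arrows_iff]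
  let c' : Cofan (fun i => pullback (c.inj i) f) := Cofan.mk Y (fun i => pullback.snd (c.inj i) f)
  obtain ⟨hc'⟩ := hc c' (Discrete.natTrans fun i => pullback.fst (c.inj i.as) f) f
    (by ext ⟨i⟩; exact pullback.condition) (NatTrans.Equifibered.of_discrete _)
    (fun i => (IsPullback.of_hasPullback (c.inj i.as) f).flip)
  intro x hx
  exact ⟨Cofan.IsColimit.desc hc' x, fun i => Cofan.IsColimit.fac hc' x i,
    fun t ht => Cofan.IsColimit.hom_ext hc' _ _ fun i =>
      (ht i).trans (Cofan.IsColimit.fac hc' x i).symm⟩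

theorem mem_of_cofan_comp {ι : Type u} {X : ι → E} {c : Cofan X} (hc : IsUniversalColimit c) {B : E}
    {π : c.pt ⟶ B} (hπ : Surj π) :
    Sieve.generate (Presieve.ofArrows X (fun i => c.inj i ≫ π)) ∈ Sheaf.canonicalTopology E B := by
  refine (Sheaf.canonicalTopology E).transitive (generate_singleton_mem hπ) _ ?_
  rintro Y _ ⟨_, g, _, ⟨⟩, rfl⟩
  rw [Sieve.pullback_comp]
  refine GrothendieckTopology.pullback_stable _ g ?_
  refine GrothendieckTopology.superset_covering _ ?_ (generate_cofan_mem hc)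
  rw [Sieve.generate_le_iff]
  rintro Z _ ⟨i⟩
  exact ⟨_, 𝟙 _, _, Presieve.ofArrows.mk i, Category.id_comp _⟩

section Axioms

variable (hb : SGA4.HasDisjointUniversalCoproducts.{v, u} E)
  (hc : ∀ (R A : E) (p₁ p₂ : R ⟶ A), SGA4.IsEquivRel p₁ p₂ → SGA4.IsEffectiveUniversalEquivRel p₁ p₂)

theorem isEquivRel_kernelPair {A X : E} (f : A ⟶ X) :
    SGA4.IsEquivRel (pullback.fst f f) (pullback.snd f f) := fun T =>
  ⟨fun a b h => pullback.hom_ext (congrArg Prod.fst h) (congrArg Prod.snd h),
    ⟨fun a => ⟨pullback.lift a a rfl, pullback.lift_fst _ _ _, pullback.lift_snd _ _ _⟩,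
     fun ⟨k, h₁, h₂⟩ => ⟨pullback.lift (k ≫ pullback.snd f f) (k ≫ pullback.fst f f)
        (by simp [pullback.condition]), (pullback.lift_fst _ _ _).trans h₂,
        (pullback.lift_snd _ _ _).trans h₁⟩,
     fun ⟨k, h₁, h₂⟩ ⟨k', h₁', h₂'⟩ => ⟨pullback.lift (k ≫ pullback.fst f f) (k' ≫ pullback.snd f f)
        (by
          simp only [Category.assoc]
          conv_lhs => rw [pullback.condition, ← Category.assoc, h₂, ← h₁', Category.assoc,
            pullback.condition]),
        (pullback.lift_fst _ _ _).trans h₁, (pullback.lift_snd _ _ _).trans h₂'⟩⟩⟩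

include hc in
/-- Image factorisation. -/
theorem exists_image {A X : E} (f : A ⟶ X) :
    ∃ (B : E) (q : A ⟶ B) (m : B ⟶ X), Surj q ∧ Mono m ∧ q ≫ m = f := by
  obtain ⟨B, q, hk, hp, hu⟩ := hc _ _ _ _ (isEquivRel_kernelPair f)
  refine ⟨B, q, hp.desc f f pullback.condition, hu, ⟨fun {T} a b hab => ?_⟩, hp.inl_desc _ _ _⟩
  obtain ⟨T', e, he, a', b', ha, hb'⟩ := exists_lift₂ hu a b
  have h : a' ≫ f = b' ≫ f := by
    rw [← hp.inl_desc f f pullback.condition, reassoc_of% ha, reassoc_of% hb', hab]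
  rw [← cancel_epi e, ← ha, ← hb']
  conv_lhs => rw [← pullback.lift_fst a' b' h, Category.assoc, hk.w, ← Category.assoc, pullback.lift_snd]

include hb in
/-- Universal colimit cofans for small families. -/
theorem exists_cofan {ι : Type u} (X : ι → E) : ∃ c : Cofan X, IsUniversalColimit c :=
  let ⟨c, _, _, h⟩ := hb ι X; ⟨c, h⟩

end Axioms

end Groth.Agent.Giraud
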