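import Groth.Agent.Giraud.Transfer
import Groth.Agent.TopCanon.LocSurj

/-!
# Functor categories into a topos and glued topoi
-/

set_option autoImplicit false
set_option backward.isDefEq.respectTransparency false
set_option backward.isDefEq.respectTransparency.types false
set_option linter.style.haveILetI false

universe w v u

open CategoryTheory Limits Opposite

namespace Groth.Agent.Giraud

variable {C D : Type u} [SmallCategory C] [SmallCategory D]

theorem isTopos_functor (J : GrothendieckTopology C) :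
    SGA4.IsTopos.{u + 1, u} (D ⥤ Sheaf J (Type u)) := by
  haveI : Reflective (sheafToPresheaf J (Type u)) := ⟨presheafToSheaf J (Type u), sheafificationAdjunction J (Type u)⟩
  haveI : HasColimitsOfSize.{u, u} (Sheaf J (Type u)) :=
    ⟨fun _ _ => hasColimitsOfShape_of_reflective (sheafToPresheaf J (Type u))⟩
  haveI : HasLimitsOfSize.{u, u} (Sheaf J (Type u)) := inferInstance
  refine isTopos_of_family (I := D) (J := fun _ => J) (fun d => (evaluation D (Sheaf J (Type u))).obj d)
    (fun X Y f h => by
      haveI : ∀ d, IsIso (f.app d) := h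
      exact NatIso.isIso_of_isIso_app f)
    (fun p : D × C => (evaluationLeftAdjoint (Sheaf J (Type u)) p.1).obj (TopCanon.ε p.2)) fun X Y f h => ?_
  haveI : ∀ d, IsIso (f.app d) := fun d => by
    let e := evaluationAdjunctionRight (Sheaf J (Type u)) d
    haveI : IsIso (f.app d).hom := by
      refine @NatIso.isIso_of_isIso_app _ _ _ _ _ _ _ (fun U => ?_)
      rw [isIso_iff_bijective]
      refine ⟨fun x y hxy => ?_, fun y => ?_⟩
      · have h1 : (e.homEquiv _ _).symm (TopCanon.el (X.obj d) x) ≫ f =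
            (e.homEquiv _ _).symm (TopCanon.el (X.obj d) y) ≫ f := by
          rw [← e.homEquiv_naturality_right_symm, ← e.homEquiv_naturality_right_symm]
          congr 1
          change TopCanon.el _ x ≫ f.app d = TopCanon.el _ y ≫ f.app d
          rw [TopCanon.el_comp, TopCanon.el_comp]
          exact congrArg _ hxy
        exact (ShYonLib.yEquiv _ _).symm.injective
          ((e.homEquiv _ _).symm.injective ((h (d, U.unop) _).unique h1 rfl))
      · obtain ⟨h', hh', -⟩ := h (d, U.unop) ((e.homEquiv _ _).symm (TopCanon.el (Y.obj d) y))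
        have h2 : e.homEquiv _ _ h' ≫ f.app d = TopCanon.el (Y.obj d) y := by
          refine ((e.homEquiv_naturality_right h' f).symm).trans ?_
          rw [hh', Equiv.apply_symm_apply]
        refine ⟨ShYonLib.yEquiv U.unop _ (e.homEquiv _ _ h'), ?_⟩
        change (f.app d).hom.app (op U.unop) _ = y
        rw [← ShYonLib.yEquiv_comp, h2, Equiv.apply_symm_apply]
    haveI : IsIso ((sheafToPresheaf J (Type u)).map (f.app d)) := ‹IsIso (f.app d).hom›
    exact isIso_of_reflects_iso (f.app d) (sheafToPresheaf J (Type u))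
  exact NatIso.isIso_of_isIso_app f

section Glue

variable {J : GrothendieckTopology C} {K : GrothendieckTopology D}
  (ρ : Sheaf J (Type u) ⥤ Sheaf K (Type u)) [PreservesFiniteLimits ρ]

theorem preservesFiniteLimits_comma_fst :
    PreservesFiniteLimits (Comma.fst (𝟭 (Sheaf K (Type u))) ρ) :=
  ⟨fun _ _ _ => ⟨fun {F} => preservesLimit_of_preserves_limit_cone
    (Comma.coneOfPreservesIsLimit F (limit.isLimit _) (limit.isLimit _)) (limit.isLimit _)⟩⟩

theorem preservesFiniteLimits_comma_snd :
    PreservesFiniteLimits (Comma.snd (𝟭 (Sheaf K (Type u))) ρ) :=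
  ⟨fun _ _ _ => ⟨fun {F} => preservesLimit_of_preserves_limit_cone
    (Comma.coneOfPreservesIsLimit F (limit.isLimit _) (limit.isLimit _)) (limit.isLimit _)⟩⟩

omit [PreservesFiniteLimits ρ] in
theorem exists_small_lift [hρ : ρ.IsAccessible.{u}] :
    ∃ (ι : Type u) (S : ι → Sheaf J (Type u)), ∀ (X : Sheaf J (Type u)) (V : D) (p : (ρ.obj X).obj.obj (op V)),
      ∃ T ∈ K V, ∀ ⦃W : D⦄ (i : W ⟶ V), T i → ∃ (a : ι) (g : S a ⟶ X) (η : (ρ.obj (S a)).obj.obj (op W)),
        (ρ.map g).hom.app (op W) η = (ρ.obj X).obj.map i.op p := by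
  obtain ⟨κ, _, _⟩ := hρ.exists_cardinal
  haveI : IsCardinalLocallyPresentable (Cᵒᵖ ⥤ Type u) κ := inferInstance
  obtain ⟨Q, _, hQ⟩ := HasCardinalFilteredGenerator.exists_small_generator (Cᵒᵖ ⥤ Type u) κ
  let a := presheafToSheaf J (Type u)
  refine ⟨Shrink.{u} (Subtype Q), fun x => a.obj ((equivShrink _).symm x).1, fun X V p => ?_⟩
  obtain ⟨J', _, _, ⟨P⟩⟩ := hQ.exists_colimitsOfShape X.obj
  haveI : PreservesColimitsOfShape J' ρ := Functor.preservesColimitsOfShape_of_isCardinalAccessible ρ κ J'
  haveI : Reflective (sheafToPresheaf J (Type u)) := ⟨a, sheafificationAdjunction J (Type u)⟩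
  let ε : a.obj X.obj ≅ X := asIso ((sheafificationAdjunction J (Type u)).counit.app X)
  let hc := isColimitOfPreserves ρ ((isColimitOfPreserves a P.isColimit))
  let S : Sieve (ρ.obj X) := Sieve.generate (Presieve.ofArrows (fun j => ρ.obj (a.obj (P.diag.obj j)))
    (fun j => ρ.map (a.map (P.ι.app j) ≫ ε.hom)))
  have hS : TopCanon.LocSurj S := TopCanon.locSurj_of_epi fun W η η' h => by
    rw [← cancel_epi (ρ.map ε.hom)]
    refine hc.hom_ext fun j => ?_
    have := h _ (Sieve.le_generate _ _ _ (Presieve.ofArrows.mk j))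
    rw [Functor.map_comp, Category.assoc, Category.assoc] at this
    exact this
  refine ⟨_, hS V p, fun W i hi => ?_⟩
  obtain ⟨_, _, ⟨_, r, _, ⟨j⟩, rfl⟩, b, hb⟩ := hi
  obtain ⟨x, hx⟩ : ∃ x, ((equivShrink (Subtype Q)).symm x).1 = P.diag.obj j :=
    ⟨equivShrink _ ⟨_, P.prop_diag_obj j⟩, by rw [Equiv.symm_apply_apply]⟩
  refine ⟨x, eqToHom (congrArg a.obj hx) ≫ a.map (P.ι.app j) ≫ ε.hom,
    (ρ.map (eqToHom (congrArg a.obj hx.symm))).hom.app _ (r.hom.app (op W) b), ?_⟩
  refine Eq.trans ?_ hb
  rw [Functor.map_comp]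
  change ((ρ.map (eqToHom _) ≫ ρ.map (eqToHom _) ≫ ρ.map _).hom.app (op W)) (r.hom.app (op W) b) = _
  rw [← Functor.map_comp_assoc, eqToHom_trans, eqToHom_refl, ρ.map_id, Category.id_comp]
  rfl

/-- The two sites of a glued topos, indexed by `Bool`. -/
abbrev TwoC (D' C' : Type u) : Bool → Type u
  | true => D'
  | false => C'

instance twoCCat : ∀ b, SmallCategory (TwoC D C b)
  | true => (inferInstance : SmallCategory D)
  | false => (inferInstance : SmallCategory C)

/-- The two topologies of a glued topos. -/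
abbrev twoTop (J : GrothendieckTopology C) (K : GrothendieckTopology D) : ∀ b, GrothendieckTopology (TwoC D C b)
  | true => K
  | false => J

/-- The two projections of a glued topos. -/
abbrev commaFam : ∀ b, Comma (𝟭 (Sheaf K (Type u))) ρ ⥤ Sheaf (twoTop J K b) (Type u)
  | true => Comma.fst _ _
  | false => Comma.snd _ _

theorem isTopos_comma [ρ.IsAccessible.{u}] :
    SGA4.IsTopos.{u + 1, u} (Comma (𝟭 (Sheaf K (Type u))) ρ) := by
  obtain ⟨ι, S, hS⟩ := exists_small_lift ρ
  haveI := preservesFiniteLimits_comma_fst ρ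
  haveI := preservesFiniteLimits_comma_snd ρ
  haveI : Reflective (sheafToPresheaf J (Type u)) := ⟨presheafToSheaf J (Type u), sheafificationAdjunction J (Type u)⟩
  haveI : Reflective (sheafToPresheaf K (Type u)) := ⟨presheafToSheaf K (Type u), sheafificationAdjunction K (Type u)⟩
  haveI : HasColimitsOfSize.{u, u} (Sheaf J (Type u)) :=
    ⟨fun _ _ => hasColimitsOfShape_of_reflective (sheafToPresheaf J (Type u))⟩
  haveI : HasColimitsOfSize.{u, u} (Sheaf K (Type u)) :=
    ⟨fun _ _ => hasColimitsOfShape_of_reflective (sheafToPresheaf K (Type u))⟩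
  haveI : HasColimitsOfSize.{u, u} (Comma (𝟭 (Sheaf K (Type u))) ρ) := inferInstance
  haveI : PreservesColimitsOfSize.{u, u} (Comma.fst (𝟭 (Sheaf K (Type u))) ρ) := ⟨fun {_} _ => inferInstance⟩
  haveI : PreservesColimitsOfSize.{u, u} (Comma.snd (𝟭 (Sheaf K (Type u))) ρ) := ⟨fun {_} _ => inferInstance⟩
  haveI : ∀ b, PreservesFiniteLimits (commaFam ρ b) := fun b => by
    cases b
    · exact preservesFiniteLimits_comma_snd ρ
    · exact preservesFiniteLimits_comma_fst ρ
  haveI : ∀ b, PreservesColimitsOfSize.{u, u} (commaFam ρ b) := fun b => by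
    cases b
    · exact (inferInstance : PreservesColimitsOfSize.{u, u} (Comma.snd (𝟭 (Sheaf K (Type u))) ρ))
    · exact (inferInstance : PreservesColimitsOfSize.{u, u} (Comma.fst (𝟭 (Sheaf K (Type u))) ρ))
  haveI := SheafExt.hasInitial_sheaf K
  have hiso : ∀ ⦃X Y : Comma (𝟭 (Sheaf K (Type u))) ρ⦄ (f : X ⟶ Y), IsIso f.left → IsIso f.right → IsIso f :=
    fun X Y f _ _ => (Comma.isoMk (asIso f.left) (asIso f.right) f.w).isIso_hom
  let G : C ⊕ (Σ (V : D) (x : ι), (ρ.obj (S x)).obj.obj (op V)) → Comma (𝟭 (Sheaf K (Type u))) ρ :=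
    fun i => match i with
      | Sum.inl U => ⟨⊥_ _, TopCanon.ε U, initial.to _⟩
      | Sum.inr ⟨V, x, η⟩ => ⟨TopCanon.ε V, S x, TopCanon.el _ η⟩
  refine isTopos_of_family (commaFam ρ) (fun X Y f h => hiso f (h true) (h false)) G fun X Y f h => ?_
  have hb : IsIso f.right := by
    haveI : IsIso f.right.hom := by
      refine @NatIso.isIso_of_isIso_app _ _ _ _ _ _ _ (fun U => ?_)
      rw [isIso_iff_bijective]
      refine ⟨fun x y hxy => ?_, fun y => ?_⟩
      · let k : ∀ z : X.right.obj.obj (op U.unop), G (Sum.inl U.unop) ⟶ X := fun z =>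
          { left := initial.to _, right := TopCanon.el X.right z, w := initialIsInitial.hom_ext _ _ }
        have h1 : k x ≫ f = k y ≫ f := by
          refine CommaMorphism.ext (initialIsInitial.hom_ext _ _) ?_
          change TopCanon.el _ x ≫ f.right = TopCanon.el _ y ≫ f.right
          rw [TopCanon.el_comp, TopCanon.el_comp]
          exact congrArg _ hxy
        exact (ShYonLib.yEquiv _ _).symm.injective (congrArg CommaMorphism.right ((h (Sum.inl U.unop) _).unique h1 rfl))
      · obtain ⟨h', hh', -⟩ := h (Sum.inl U.unop)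
          { left := initial.to _, right := TopCanon.el Y.right y, w := initialIsInitial.hom_ext _ _ }
        refine ⟨ShYonLib.yEquiv U.unop _ h'.right, ?_⟩
        change f.right.hom.app (op U.unop) _ = y
        rw [← ShYonLib.yEquiv_comp]
        have := congrArg CommaMorphism.right hh'
        change h'.right ≫ f.right = _ at this
        rw [this]
        exact Equiv.apply_symm_apply _ _
    haveI : IsIso ((sheafToPresheaf J (Type u)).map f.right) := ‹IsIso f.right.hom›
    exact isIso_of_reflects_iso f.right (sheafToPresheaf J (Type u))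
  haveI := hb
  have sep : Presieve.IsSheaf K X.left.obj := (isSheaf_iff_isSheaf_of_type _ _).1 X.left.property
  have hw : ∀ (U : Dᵒᵖ) (z : X.left.obj.obj U),
      Y.hom.hom.app U (f.left.hom.app U z) = (ρ.map f.right).hom.app U (X.hom.hom.app U z) := fun U z => by
    have h2 := congrArg (fun t : X.left ⟶ ρ.obj Y.right => t.hom.app U z) f.w
    exact h2
  haveI : Mono f.left := by
    haveI : Mono f.left.hom := by
      refine @NatTrans.mono_of_mono_app _ _ _ _ _ _ _ (fun U => ?_)
      rw [mono_iff_injective]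
      intro y₁ y₂ hy
      have hp : X.hom.hom.app U y₁ = X.hom.hom.app U y₂ := by
        haveI : IsIso ((ρ.map f.right).hom.app U) :=
          inferInstanceAs (IsIso (((sheafToPresheaf K (Type u)).map (ρ.map f.right)).app U))
        refine ((isIso_iff_bijective ((ρ.map f.right).hom.app U)).1 inferInstance).1 ?_
        rw [← hw, ← hw, hy]
      obtain ⟨T', hT', hT⟩ := hS X.right U.unop (X.hom.hom.app U y₁)
      refine (sep _ hT').isSeparatedFor.ext fun W i hi => ?_
      obtain ⟨x, g, η, hη⟩ := hT i hi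
      let k : ∀ z : X.left.obj.obj U, X.hom.hom.app U z = X.hom.hom.app U y₁ →
          (G (Sum.inr ⟨W, x, η⟩) ⟶ X) := fun z hz =>
        { left := TopCanon.el X.left (X.left.obj.map i.op z), right := g
          w := by
            change TopCanon.el _ _ ≫ X.hom = TopCanon.el _ η ≫ ρ.map g
            rw [TopCanon.el_comp, TopCanon.el_comp, hη]
            exact congrArg (TopCanon.el _) ((NatTrans.naturality_apply X.hom.hom i.op z).trans (congrArg _ hz)) }
      have h1 : k y₁ rfl ≫ f = k y₂ hp.symm ≫ f := by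
        refine CommaMorphism.ext ?_ rfl
        change TopCanon.el _ _ ≫ f.left = TopCanon.el _ _ ≫ f.left
        rw [TopCanon.el_comp, TopCanon.el_comp, NatTrans.naturality_apply f.left.hom i.op,
          NatTrans.naturality_apply f.left.hom i.op]
        exact congrArg (fun z => TopCanon.el Y.left (Y.left.obj.map i.op z)) hy
      exact (ShYonLib.yEquiv _ _).symm.injective
        (congrArg CommaMorphism.left ((h (Sum.inr ⟨W, x, η⟩) _).unique h1 rfl))
    exact (sheafToPresheaf K (Type u)).mono_of_mono_map (f := f.left) ‹_›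
  haveI : Epi f.left := by
    rw [← Sheaf.isLocallySurjective_iff_epi]
    refine ⟨fun {V} y => ?_⟩
    obtain ⟨T', hT', hT⟩ := hS Y.right V (Y.hom.hom.app (op V) y)
    refine K.superset_covering (fun W i hi => ?_) hT'
    obtain ⟨x, g, η, hη⟩ := hT i hi
    obtain ⟨h', hh', -⟩ := h (Sum.inr ⟨W, x, η⟩)
      { left := TopCanon.el Y.left (Y.left.obj.map i.op y), right := g
        w := by
          change TopCanon.el _ _ ≫ Y.hom = TopCanon.el _ η ≫ ρ.map g
          rw [TopCanon.el_comp, TopCanon.el_comp, hη]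
          exact congrArg (TopCanon.el _) (NatTrans.naturality_apply Y.hom.hom i.op y) }
    refine ⟨ShYonLib.yEquiv W _ h'.left, ?_⟩
    rw [← ShYonLib.yEquiv_comp]
    have := congrArg CommaMorphism.left hh'
    change h'.left ≫ f.left = _ at this
    rw [this]
    exact Equiv.apply_symm_apply _ _
  exact hiso f (isIso_of_mono_of_epi f.left) hb

end Glue

theorem isTopos_functor_of_isTopos {E : Type v} [Category.{u} E] (hE : SGA4.IsTopos E) :
    SGA4.IsTopos (D ⥤ E) := by
  obtain ⟨C₀, _, J₀, ⟨e⟩⟩ := hE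
  obtain ⟨C₁, i₁, J₁, ⟨e'⟩⟩ := isTopos_functor (D := D) J₀
  exact ⟨C₁, i₁, J₁, ⟨(e.congrRight).trans e'⟩⟩

end Groth.Agent.Giraud
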