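import Groth.Agent.Giraud.Basic

/-!
# The theorem of Giraud
-/

set_option autoImplicit false
set_option backward.isDefEq.respectTransparency false
set_option backward.isDefEq.respectTransparency.types false
set_option linter.style.haveILetI false

universe v u

open CategoryTheory Limits Opposite

namespace Groth.Agent.Giraud

variable {E : Type v} [Category.{u} E] [HasFiniteLimits E]

theorem subsingleton_of_bot_mem {F : Eᵒᵖ ⥤ Type u}
    (hF : Presieve.IsSheaf (Sheaf.canonicalTopology E) F) {Z : E}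
    (h : (⊥ : Sieve Z) ∈ Sheaf.canonicalTopology E Z) : Subsingleton (F.obj (op Z)) :=
  ⟨fun _ _ => (hF _ h).isSeparatedFor.ext fun _ _ hf => hf.elim⟩

section

variable (hb : SGA4.HasDisjointUniversalCoproducts.{v, u} E)
  (hc : ∀ (R A : E) (p₁ p₂ : R ⟶ A), SGA4.IsEquivRel p₁ p₂ → SGA4.IsEffectiveUniversalEquivRel p₁ p₂)
  {ι : Type u} (G : ι → E)
  (hG : ∀ ⦃X Y : E⦄ (f : X ⟶ Y), (∀ i (h : G i ⟶ Y), ∃! h', h' ≫ f = h) → IsIso f)

include hb hc hG in
/-- The maps from the generators cover every object. -/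
theorem generate_gen_mem (X : E) :
    Sieve.generate (Presieve.ofArrows (fun p : Σ i, G i ⟶ X => G p.1) (fun p => p.2)) ∈
      Sheaf.canonicalTopology E X := by
  obtain ⟨c, hcu⟩ := exists_cofan hb (fun p : Σ i, G i ⟶ X => G p.1)
  let hcc := hcu.isColimit
  obtain ⟨B, q, m, hq, hm, hqm⟩ := exists_image hc (Cofan.IsColimit.desc hcc fun p => p.2)
  haveI : IsIso m := hG m fun i h =>
    ⟨c.inj ⟨i, h⟩ ≫ q, by simp [hqm], fun h' hh' => by
      rw [← cancel_mono m, hh']; simp [hqm]⟩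
  refine GrothendieckTopology.superset_covering _ ?_
    ((Sheaf.canonicalTopology E).pullback_stable (inv m) (mem_of_cofan_comp hcu hq))
  rintro Y g ⟨_, r, _, ⟨p⟩, hr⟩
  refine ⟨_, r, _, Presieve.ofArrows.mk p, ?_⟩
  rw [← cancel_mono (inv m)]
  rw [← hr, Category.assoc]
  congr 1
  rw [IsIso.comp_inv_eq, Category.assoc, hqm]
  simp

include hb in
theorem bot_mem_of_isInitial {P : E} (hP : IsInitial P) :
    (⊥ : Sieve P) ∈ Sheaf.canonicalTopology E P := by
  obtain ⟨c, hcu⟩ := exists_cofan hb (fun i : PEmpty.{u+1} => (PEmpty.elim i : E))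
  refine GrothendieckTopology.superset_covering _ ?_
    ((Sheaf.canonicalTopology E).pullback_stable (hP.to c.pt) (generate_cofan_mem hcu))
  rintro Y g ⟨_, _, _, ⟨i⟩, _⟩
  exact i.elim

include hb hc hG in
/-- Sheaves for the canonical topology are representable. -/
theorem exists_iso_yoneda (F : Eᵒᵖ ⥤ Type u) (hF : Presieve.IsSheaf (Sheaf.canonicalTopology E) F) :
    ∃ B : E, Nonempty (yoneda.obj B ≅ F) := by
  have mm : ∀ {X Y Z : E} (g : Z ⟶ Y) (f : Y ⟶ X) (x : F.obj (op X)),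
      F.map g.op (F.map f.op x) = F.map (g ≫ f).op x := fun g f x => by
    rw [op_comp, F.map_comp]; rfl
  obtain ⟨c, hcc, hdis, hcu⟩ := hb (Σ i, F.obj (op (G i))) (fun p => G p.1)
  haveI := hdis
  obtain ⟨s, hs⟩ : ∃ s : F.obj (op c.pt), ∀ p, F.map (c.inj p).op s = p.2 := by
    have h := hF _ (generate_cofan_mem hcu)
    rw [← Presieve.isSheafFor_iff_generate, Presieve.isSheafFor_arrows_iff] at h
    obtain ⟨s, hs, -⟩ := h (fun p => p.2) (by
      intro p p' Z g g' hg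
      by_cases e : p = p'
      · subst e
        haveI := CoproductDisjoint.mono_inj hcc p
        rw [cancel_mono] at hg
        rw [hg]
      · obtain ⟨hi⟩ := CoproductDisjoint.nonempty_isInitial_of_ne hcc e
          (pullback.cone (c.inj p) (c.inj p')) (pullback.isLimit _ _)
        have hZ : (⊥ : Sieve Z) ∈ Sheaf.canonicalTopology E Z := by
          refine GrothendieckTopology.superset_covering _ ?_
            ((Sheaf.canonicalTopology E).pullback_stable
              (pullback.lift g g' hg : Z ⟶ (pullback.cone (c.inj p) (c.inj p')).pt)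
              (bot_mem_of_isInitial hb hi))
          exact fun Y f hf => hf
        exact (subsingleton_of_bot_mem hF hZ).elim _ _)
    exact ⟨s, hs⟩
  let A := c.pt
  -- the relation
  let I := Σ i, {ab : (G i ⟶ A) × (G i ⟶ A) // F.map ab.1.op s = F.map ab.2.op s}
  obtain ⟨d, hdu⟩ := exists_cofan hb (fun p : I => G p.1)
  obtain ⟨R, q, m, hq, hm, hqm⟩ := exists_image hc
    (Cofan.IsColimit.desc hdu.isColimit fun p : I => prod.lift p.2.1.1 p.2.1.2)
  obtain ⟨p₁, hp₁⟩ : ∃ p : R ⟶ A, p = m ≫ prod.fst := ⟨_, rfl⟩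
  obtain ⟨p₂, hp₂⟩ : ∃ p : R ⟶ A, p = m ≫ prod.snd := ⟨_, rfl⟩
  have hp : F.map p₁.op s = F.map p₂.op s := by
    refine (hF _ (mem_of_cofan_comp hdu hq)).isSeparatedFor.ext ?_
    rintro Y _ ⟨_, r, _, ⟨j⟩, rfl⟩
    rw [mm, mm]
    have h1 : (d.inj j ≫ q) ≫ p₁ = j.2.1.1 := by simp [hp₁, reassoc_of% hqm]
    have h2 : (d.inj j ≫ q) ≫ p₂ = j.2.1.2 := by simp [hp₂, reassoc_of% hqm]
    change F.map ((r ≫ d.inj j ≫ q) ≫ p₁).op s = F.map ((r ≫ d.inj j ≫ q) ≫ p₂).op s
    rw [Category.assoc, Category.assoc, Category.assoc, Category.assoc,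
      show d.inj j ≫ q ≫ p₁ = j.2.1.1 by rw [← h1, Category.assoc],
      show d.inj j ≫ q ≫ p₂ = j.2.1.2 by rw [← h2, Category.assoc],
      ← mm r j.2.1.1, ← mm r j.2.1.2, j.2.2]
  have hlift : ∀ {T : E} (a b : T ⟶ A), F.map a.op s = F.map b.op s →
      ∃ k : T ⟶ R, k ≫ p₁ = a ∧ k ≫ p₂ = b := by
    intro T a b hab
    haveI : Mono (pullback.snd m (prod.lift a b)) := inferInstance
    haveI : IsIso (pullback.snd m (prod.lift a b)) := hG _ fun i h => by
      let j : I := ⟨i, ⟨(h ≫ a, h ≫ b), by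
        change F.map (h ≫ a).op s = F.map (h ≫ b).op s
        rw [← mm, ← mm, hab]⟩⟩
      refine ⟨pullback.lift (d.inj j ≫ q) h (by simp [hqm, prod.comp_lift, j]),
        pullback.lift_snd _ _ _, fun h' hh' => ?_⟩
      rw [← cancel_mono (pullback.snd m (prod.lift a b)), hh', pullback.lift_snd]
    refine ⟨inv (pullback.snd m (prod.lift a b)) ≫ pullback.fst _ _, ?_, ?_⟩
    · simp [hp₁, pullback.condition_assoc]
    · simp [hp₂, pullback.condition_assoc]
  have hrel : SGA4.IsEquivRel p₁ p₂ := fun T => by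
    refine ⟨fun a b h => ?_, ⟨fun a => hlift a a rfl, ?_, ?_⟩⟩
    · rw [← cancel_mono m]
      apply Limits.prod.hom_ext
      · simpa [hp₁] using congrArg Prod.fst h
      · simpa [hp₂] using congrArg Prod.snd h
    · rintro a b ⟨k, rfl, rfl⟩
      exact hlift _ _ (by rw [← mm, ← mm, hp])
    · rintro a b b' ⟨k, rfl, hk⟩ ⟨k', hk', rfl⟩
      refine hlift _ _ ?_
      rw [← mm, hp, mm, hk, ← hk', ← mm, hp, mm]
  obtain ⟨B, π, hk, -, hu⟩ := hc R A p₁ p₂ hrel
  obtain ⟨t, ht⟩ : ∃ t : F.obj (op B), F.map π.op t = s := by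
    have h := hF _ (generate_singleton_mem hu)
    rw [← Presieve.isSheafFor_iff_generate, Presieve.isSheafFor_singleton] at h
    obtain ⟨t, ht, -⟩ := h s fun {Z} g g' hg => by
      rw [← hk.lift_fst g g' hg, ← mm, hp, mm, hk.lift_snd]
    exact ⟨t, ht⟩
  have hinj : ∀ {T : E} (a b : T ⟶ B), F.map a.op t = F.map b.op t → a = b := by
    intro T a b hab
    obtain ⟨T', e, he, a', b', ha, hb'⟩ := exists_lift₂ hu a b
    obtain ⟨k, hk₁, hk₂⟩ := hlift a' b' (by rw [← ht, mm, mm, ha, hb', ← mm, ← mm, hab])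
    rw [← cancel_epi e, ← ha, ← hb', ← hk₁, ← hk₂, Category.assoc, Category.assoc, hk.w]
  refine ⟨B, ⟨NatIso.ofComponents (fun T => Equiv.toIso
    (Equiv.ofBijective (fun f : T.unop ⟶ B => F.map f.op t) ⟨fun a b h => hinj a b h, ?_⟩)) ?_⟩⟩
  · intro x
    have h := Sheaf.isSheaf_yoneda_obj B _ (generate_gen_mem hb hc G hG T.unop)
    rw [← Presieve.isSheafFor_iff_generate, Presieve.isSheafFor_arrows_iff] at h
    have key : ∀ p : Σ i, G i ⟶ T.unop,
        F.map (c.inj ⟨p.1, F.map p.2.op x⟩ ≫ π).op t = F.map p.2.op x := fun p => by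
      rw [← mm, ht, hs]
    obtain ⟨f, hf, -⟩ := h (fun p => c.inj ⟨p.1, F.map p.2.op x⟩ ≫ π) fun i j Z g g' hg => by
      refine hinj _ _ ?_
      change F.map (g ≫ c.inj ⟨i.1, F.map i.2.op x⟩ ≫ π).op t = F.map (g' ≫ c.inj ⟨j.1, F.map j.2.op x⟩ ≫ π).op t
      rw [← mm g (c.inj ⟨i.1, F.map i.2.op x⟩ ≫ π) t, key i,
        ← mm g' (c.inj ⟨j.1, F.map j.2.op x⟩ ≫ π) t, key j, mm, mm]
      exact congrArg (fun a => F.map (Quiver.Hom.op a) x) hg
    refine ⟨f, (hF _ (generate_gen_mem hb hc G hG T.unop)).isSeparatedFor.ext ?_⟩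
    rintro Y _ ⟨_, r, _, ⟨p⟩, rfl⟩
    change F.map (r ≫ p.2).op (F.map f.op t) = F.map (r ≫ p.2).op x
    rw [← mm r p.2, ← mm r p.2 x]
    congr 1
    rw [mm]
    have h3 : p.2 ≫ f = c.inj ⟨p.1, F.map p.2.op x⟩ ≫ π := hf p
    rw [h3]
    exact key p
  · intro T T' g
    ext f
    exact (mm g.unop f t).symm

/-- The small site on the generators. -/
abbrev Gen := InducedCategory E G

include hb hc hG in
theorem isTopos : SGA4.IsTopos.{v, u} E := by
  let F : Gen G ⥤ E := inducedFunctor G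
  let K := Sheaf.canonicalTopology E
  haveI : F.IsCoverDense K := ⟨fun X => GrothendieckTopology.superset_covering _
    (by
      rintro Y _ ⟨_, r, _, ⟨p⟩, rfl⟩
      exact ⟨⟨p.1, r, p.2, rfl⟩⟩) (generate_gen_mem hb hc G hG X)⟩
  refine ⟨Gen G, inferInstance, F.inducedTopology K, ?_⟩
  haveI : K.yoneda.EssSurj := ⟨fun F' => by
    obtain ⟨B, ⟨e⟩⟩ := exists_iso_yoneda hb hc G hG F'.obj ((isSheaf_iff_isSheaf_of_type _ _).1 F'.property)
    exact ⟨B, ⟨(fullyFaithfulSheafToPresheaf _ _).preimageIso e⟩⟩⟩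
  haveI : K.yoneda.IsEquivalence := {}
  exact ⟨K.yoneda.asEquivalence.trans (Functor.IsDenseSubsite.sheafEquiv (F.inducedTopology K) K F (Type u)).symm⟩

end

end Groth.Agent.Giraud
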