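import Groth.Agent.Giraud.Site
import Groth.Agent.SheafExt.Coprod
import Groth.Agent.EquivRelSh.Basic

/-!
# Axioms of Giraud from a conservative family of exact functors to topoi of sheaves
-/

set_option autoImplicit false
set_option backward.isDefEq.respectTransparency false
set_option backward.isDefEq.respectTransparency.types false
set_option linter.style.haveILetI false

universe w v u

open CategoryTheory Limits Opposite

namespace Groth.Agent.Giraud

variable {E : Type v} [Category.{u} E] [HasFiniteLimits E]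

theorem isEquivalenceRelation_of_isEquivRel {R A : E} {p₁ p₂ : R ⟶ A}
    (hR : SGA4.IsEquivRel p₁ p₂) : IsEquivalenceRelation p₁ p₂ := by
  haveI hj : JointlyMono₂ p₁ p₂ := ⟨fun T f g h₁ h₂ => (hR T).1 (Prod.ext h₁ h₂)⟩
  obtain ⟨r, hr₁, hr₂⟩ := (hR A).2.refl (𝟙 A)
  obtain ⟨σ, hσ₁, hσ₂⟩ := (hR R).2.symm ⟨𝟙 R, Category.id_comp p₁, Category.id_comp p₂⟩
  obtain ⟨τ, hτ₁, hτ₂⟩ := (hR _).2.trans ⟨pullback.fst p₂ p₁, rfl, rfl⟩
    ⟨pullback.snd p₂ p₁, pullback.condition.symm, rfl⟩
  exact ⟨⟨{
    r := r, reflexivity₁ := hr₁, reflexivity₂ := hr₂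
    s := σ, symmetry₁ := hσ₁, symmetry₂ := hσ₂
    c := PullbackCone.mk (pullback.fst p₂ p₁) (pullback.snd p₂ p₁) pullback.condition
    isLimit := (IsPullback.of_hasPullback p₂ p₁).isLimit
    t := τ, transitivity₁ := hτ₁, transitivity₂ := hτ₂ }⟩⟩

variable [HasColimitsOfSize.{u, u} E] {I : Type w} {C : I → Type u} [∀ i, SmallCategory (C i)]
  {J : ∀ i, GrothendieckTopology (C i)} (T : ∀ i, E ⥤ Sheaf (J i) (Type u))
  [∀ i, PreservesFiniteLimits (T i)] [∀ i, PreservesColimitsOfSize.{u, u} (T i)]
  (hT : ∀ ⦃X Y : E⦄ (f : X ⟶ Y), (∀ i, IsIso ((T i).map f)) → IsIso f)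

include hT in
theorem hasDisjointUniversalCoproducts : SGA4.HasDisjointUniversalCoproducts.{v, u} E := by
  intro ι X
  haveI : HasColimitsOfShape (Discrete ι) E := inferInstance
  let c := Cofan.mk (∐ X) (Sigma.ι X)
  let hc : IsColimit c := coproductIsCoproduct X
  have hVK : ∀ i, IsVanKampenColimit ((T i).mapCocone c) := fun i =>
    SheafExt.isVanKampen_sheaf (J i) _ (isColimitOfPreserves (T i) hc)
  refine ⟨c, hc, ?_, ?_⟩
  · haveI : HasColimitsOfSize.{0, 0} E := hasColimitsOfSizeShrink.{0, 0} E
    haveI : HasInitial E := inferInstance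
    have hm : ∀ j, Mono (c.inj j) := fun j => by
      have h1 : ∀ i, Mono ((T i).map (c.inj j)) := fun i => by
        haveI := SheafExt.hasInitial_sheaf (J i)
        exact mono_of_cofan_isVanKampen (hVK i) ⟨j⟩
      haveI : IsIso (pullback.fst (c.inj j) (c.inj j)) := hT _ fun i => by
        haveI := h1 i
        exact PullbackCone.isIso_fst_of_mono_of_isLimit
          ((IsPullback.of_hasPullback (c.inj j) (c.inj j)).map (T i)).isLimit
      refine ⟨fun {Z} a b hab => ?_⟩
      have hd : pullback.fst (c.inj j) (c.inj j) = pullback.snd (c.inj j) (c.inj j) := by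
        have h2 : inv (pullback.fst (c.inj j) (c.inj j)) = pullback.lift (𝟙 _) (𝟙 _) rfl := by
          rw [← cancel_mono (pullback.fst (c.inj j) (c.inj j)), IsIso.inv_hom_id, pullback.lift_fst]
        rw [← cancel_epi (inv (pullback.fst (c.inj j) (c.inj j))), IsIso.inv_hom_id, h2, pullback.lift_snd]
      rw [← pullback.lift_fst a b hab, hd, pullback.lift_snd]
    refine ⟨fun {d} hd {j k} hjk s hs => ?_, fun {d} hd j => ?_⟩
    · haveI : IsIso (initial.to s.pt) := hT _ fun i => by
        haveI := SheafExt.hasInitial_sheaf (J i)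
        haveI : PreservesColimitsOfSize.{0, 0} (T i) := preservesColimitsOfSize_shrink.{0, u, 0, u} (T i)
        have h1 : IsInitial ((T i).obj (⊥_ E)) := IsInitial.isInitialObj (T i) _ initialIsInitial
        obtain ⟨h2⟩ := (SheafExt.coproductDisjoint_sheaf (J i) (fun a => (T i).obj (X a))).nonempty_isInitial_of_ne
          (isColimitCofanMkObjOfIsColimit (T i) X d.inj hd) hjk _
          (isLimitPullbackConeMapOfIsLimit (T i) s.condition (hs.ofIsoLimit (PullbackCone.eta s)))
        exact ⟨h2.to _, h1.hom_ext _ _, h2.hom_ext _ _⟩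
      exact ⟨initialIsInitial.ofIso (asIso (initial.to s.pt))⟩
    · haveI := hm j
      rw [show d.inj j = c.inj j ≫ (hc.uniqueUpToIso hd).hom.hom by simp]
      infer_instance
  · intro F' c' α f h hα hp
    let u' := colimit.desc F' c'
    haveI : IsIso u' := hT _ fun i => by
      obtain ⟨h2⟩ := (hVK i ((T i).mapCocone c') (Functor.whiskerRight α (T i)) ((T i).map f)
        (NatTrans.ext (funext fun j => by
          have := congrArg (fun t => (T i).map t) (NatTrans.congr_app h j)
          simpa using this))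
        (hα.whiskerRight _)).2 (fun j => (hp j).map (T i))
      let h1 := isColimitOfPreserves (T i) (colimit.isColimit F')
      have : (T i).map u' = (h1.coconePointUniqueUpToIso h2).hom := h1.hom_ext fun j => by
        rw [IsColimit.comp_coconePointUniqueUpToIso_hom]
        simp [u', ← Functor.map_comp]
      rw [this]
      infer_instance
    exact ⟨(colimit.isColimit F').ofPointIso (i := (inferInstance : IsIso u'))⟩

include hT in
theorem effectiveEpi_of_map_epi {A B : E} (q : A ⟶ B) (h : ∀ i, Epi ((T i).map q)) : EffectiveEpi q := by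
  haveI : HasColimitsOfSize.{0, 0} E := hasColimitsOfSizeShrink.{0, 0} E
  haveI : ∀ i, PreservesColimitsOfSize.{0, 0} (T i) := fun i => preservesColimitsOfSize_shrink.{0, u, 0, u} (T i)
  let k₁ := pullback.fst q q
  let k₂ := pullback.snd q q
  let d := coequalizer.desc q (pullback.condition : k₁ ≫ q = k₂ ≫ q)
  haveI : IsIso d := hT _ fun i => by
    haveI := h i
    haveI := IsRegularEpiCategory.regularEpiOfEpi ((T i).map q)
    haveI hs : EffectiveEpi ((T i).map q) := inferInstance
    let hcq := isColimitCoforkMapOfIsColimit (T i) _ (coequalizerIsCoequalizer k₁ k₂)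
    have hk : IsKernelPair ((T i).map q) ((T i).map k₁) ((T i).map k₂) := (IsPullback.of_hasPullback q q).map (T i)
    let re := isColimitCoforkOfEffectiveEpi ((T i).map q) _ hk.isLimit
    refine ⟨Cofork.IsColimit.desc re ((T i).map (coequalizer.π k₁ k₂))
      (((T i).map_comp _ _).symm.trans ((congrArg (T i).map (coequalizer.condition k₁ k₂)).trans ((T i).map_comp _ _))), ?_, ?_⟩
    · refine Cofork.IsColimit.hom_ext hcq ?_
      change (T i).map (coequalizer.π k₁ k₂) ≫ (T i).map d ≫ _ = _
      rw [← Functor.map_comp_assoc, coequalizer.π_desc]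
      erw [Cofork.IsColimit.π_desc' re]
      exact (Category.comp_id _).symm
    · refine Cofork.IsColimit.hom_ext re ?_
      erw [Cofork.IsColimit.π_desc'_assoc re]
      rw [← Functor.map_comp, coequalizer.π_desc]
      exact (Category.comp_id _).symm
  have hq : IsRegularEpi q := ⟨⟨⟨_, k₁, k₂, pullback.condition,
    IsColimit.ofIsoColimit (coequalizerIsCoequalizer k₁ k₂)
      (Cofork.ext (asIso d) (coequalizer.π_desc _ _))⟩⟩⟩
  exact (isRegularEpi_iff_effectiveEpi q).1 hq

include hT in
theorem isEffectiveUniversalEquivRel {R A : E} (p₁ p₂ : R ⟶ A) (hR : SGA4.IsEquivRel p₁ p₂) :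
    SGA4.IsEffectiveUniversalEquivRel p₁ p₂ := by
  haveI : HasColimitsOfSize.{0, 0} E := hasColimitsOfSizeShrink.{0, 0} E
  haveI : ∀ i, PreservesColimitsOfSize.{0, 0} (T i) := fun i => preservesColimitsOfSize_shrink.{0, u, 0, u} (T i)
  obtain ⟨e⟩ := (isEquivalenceRelation_of_isEquivRel hR).nonempty_equivalenceRelation
  haveI := e.toReflexiveRelation.toJointlyMono₂
  let π := coequalizer.π p₁ p₂
  have hw : p₁ ≫ π = p₂ ≫ π := coequalizer.condition _ _
  have key : ∀ i, IsPullback ((T i).map p₁) ((T i).map p₂) ((T i).map π) ((T i).map π) := by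
    intro i
    haveI : Mono (prod.lift p₁ p₂) := ⟨fun f g hfg => (hR _).1 (Prod.ext
      (by simpa using hfg =≫ prod.fst) (by simpa using hfg =≫ prod.snd))⟩
    haveI : JointlyMono₂ ((T i).map p₁) ((T i).map p₂) := ⟨fun Y f g h₁ h₂ => by
      rw [← cancel_mono ((T i).map (prod.lift p₁ p₂))]
      refine BinaryFan.IsLimit.hom_ext
        (mapIsLimitOfPreservesOfIsLimit (T i) _ _ (prodIsProd A A)) ?_ ?_
      · change (f ≫ _) ≫ (T i).map prod.fst = (g ≫ _) ≫ (T i).map prod.fst
        rw [Category.assoc, Category.assoc, ← Functor.map_comp, prod.lift_fst]; exact h₁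
      · change (f ≫ _) ≫ (T i).map prod.snd = (g ≫ _) ≫ (T i).map prod.snd
        rw [Category.assoc, Category.assoc, ← Functor.map_comp, prod.lift_snd]; exact h₂⟩
    haveI : IsEquivalenceRelation ((T i).map p₁) ((T i).map p₂) := ⟨⟨
      { __ := e.toReflexiveRelation.map (T i)
        __ := e.toSymmetricRelation.map (T i)
        __ := e.toTransitiveRelation.map (T i) }⟩⟩
    obtain ⟨⟨e'⟩⟩ := EquivRelSh.universallyEffective_sheaf (J i) ((T i).map p₁) ((T i).map p₂)
    let hcq := isColimitCoforkMapOfIsColimit (T i) _ (coequalizerIsCoequalizer p₁ p₂)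
    let θ := IsColimit.coconePointUniqueUpToIso e'.toEffectiveEquivalenceRelation.isCoequalizer hcq
    have hθ : e'.π ≫ θ.hom = (T i).map π :=
      IsColimit.comp_coconePointUniqueUpToIso_hom _ hcq WalkingParallelPair.one
    exact e'.isKernelPair.of_iso (Iso.refl _) (Iso.refl _) (Iso.refl _) θ (by simp) (by simp)
      (by simpa using hθ) (by simpa using hθ)
  haveI : IsIso (pullback.lift p₁ p₂ hw) := hT _ fun i => by
    have h := (IsPullback.of_hasPullback π π).map (T i)
    have : (T i).map (pullback.lift p₁ p₂ hw) = ((key i).isoIsPullback _ _ h).hom := by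
      refine h.hom_ext ?_ ?_
      · rw [IsPullback.isoIsPullback_hom_fst, ← Functor.map_comp, pullback.lift_fst]
      · rw [IsPullback.isoIsPullback_hom_snd, ← Functor.map_comp, pullback.lift_snd]
    rw [this]
    infer_instance
  refine ⟨_, π, (IsPullback.of_hasPullback π π).of_iso (asIso (pullback.lift p₁ p₂ hw)).symm
    (Iso.refl _) (Iso.refl _) (Iso.refl _) (by simp) (by simp) (by simp) (by simp), ?_, ?_⟩
  · obtain ⟨r, hr₁, hr₂⟩ := (hR A).2.refl (𝟙 A)
    have key' : ∀ s : PushoutCocone p₁ p₂, s.inl = s.inr := fun s => by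
      have h := r ≫= s.condition
      rwa [← Category.assoc, ← Category.assoc, hr₁, hr₂, Category.id_comp, Category.id_comp] at h
    refine ⟨⟨hw⟩, ⟨PushoutCocone.IsColimit.mk _
      (fun s => coequalizer.desc s.inl (s.condition.trans (by rw [key' s])))
      (fun s => coequalizer.π_desc _ _) (fun s => (coequalizer.π_desc _ _).trans (key' s))
      (fun s m h₁ _ => coequalizer.hom_ext (by rw [coequalizer.π_desc]; exact h₁))⟩⟩
  · intro B' g
    refine effectiveEpi_of_map_epi T hT _ fun i => ?_
    haveI : Epi ((T i).map π) := ⟨fun a b h =>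
      Cofork.IsColimit.hom_ext (isColimitCoforkMapOfIsColimit (T i) _ (coequalizerIsCoequalizer p₁ p₂)) h⟩
    exact EquivRelSh.epi_of_isPullback_sheaf (J i) ((IsPullback.of_hasPullback π g).map (T i))

include hT in
theorem isTopos_of_family {ι : Type u} (G : ι → E)
    (hG : ∀ ⦃X Y : E⦄ (f : X ⟶ Y), (∀ i (h : G i ⟶ Y), ∃! h', h' ≫ f = h) → IsIso f) :
    SGA4.IsTopos.{v, u} E :=
  isTopos (hasDisjointUniversalCoproducts T hT) (fun _ _ p₁ p₂ h => isEffectiveUniversalEquivRel T hT p₁ p₂ h) G hG

end Groth.Agent.Giraud
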